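import Mathlib
import Cfsg.Agent.UCase.Main
import Cfsg.Agent.UCase.Six
import Cfsg.Agent.UCase.FieldSix

set_option autoImplicit false
set_option linter.unusedSectionVars false
set_option linter.unusedVariables false

/-!
The list of maximal subgroups of `SU_6(q)`, from the containment theorem.
-/

namespace Cfsg.Agent.UCase

open scoped Matrix
open Cfsg.Geo Cfsg.Agent.Uni Cfsg.Agent.AschCases
open Matrix (GeneralLinearGroup)

theorem not_maximal_of_between {G : Type*} [Group G] {S H K : Subgroup G} (hH : IsMaximalIn S H)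
    (h1 : H < K) (h2 : K < S) : False := by
  rcases hH.2 K h1.le h2.le with h | h
  · exact h1.ne h.symm
  · exact h2.ne h

theorem su_cases_6 {F : Type*} [Field F] [Fintype F] (q : ℕ) (hF : Fintype.card F = q ^ 2) (H : Subgroup (Matrix.GeneralLinearGroup (Fin 6) F))
    (hH : Cfsg.Geo.IsMaximalIn (Cfsg.GU 6 F q ⊓ Cfsg.Geo.specialLinear (Fin 6) F) H)
    (h : UContain 6 F q H) :
    (∃ W : Submodule F (Fin 6 → F), W ≠ ⊥ ∧ Cfsg.Geo.IsTotallySingularFor (Cfsg.hermForm 6 F q) W ∧ H = Cfsg.Geo.subspaceStabilizer W ⊓ (Cfsg.GU 6 F q ⊓ Cfsg.Geo.specialLinear (Fin 6) F)) ∨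
    (∃ W : Submodule F (Fin 6 → F), W ≠ ⊥ ∧ Cfsg.Geo.IsNondegenerateOn (Cfsg.hermForm 6 F q) W ∧ 2 * Module.finrank F W < 6 ∧ H = Cfsg.Geo.subspaceStabilizer W ⊓ (Cfsg.GU 6 F q ⊓ Cfsg.Geo.specialLinear (Fin 6) F)) ∨
    (3 ≤ q ∧ ∃ D : Fin 6 → Submodule F (Fin 6 → F), Cfsg.Geo.IsNondegenerateMDecomposition (Cfsg.hermForm 6 F q) 1 D ∧ H = Cfsg.Geo.decompositionStabilizer D ⊓ (Cfsg.GU 6 F q ⊓ Cfsg.Geo.specialLinear (Fin 6) F)) ∨
    (3 ≤ q ∧ ∃ D : Fin 3 → Submodule F (Fin 6 → F), Cfsg.Geo.IsNondegenerateMDecomposition (Cfsg.hermForm 6 F q) 2 D ∧ H = Cfsg.Geo.decompositionStabilizer D ⊓ (Cfsg.GU 6 F q ⊓ Cfsg.Geo.specialLinear (Fin 6) F)) ∨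
    (∃ D : Fin 2 → Submodule F (Fin 6 → F), Cfsg.Geo.IsNondegenerateMDecomposition (Cfsg.hermForm 6 F q) 3 D ∧ H = Cfsg.Geo.decompositionStabilizer D ⊓ (Cfsg.GU 6 F q ⊓ Cfsg.Geo.specialLinear (Fin 6) F)) ∨
    (∃ D : Fin 2 → Submodule F (Fin 6 → F), Cfsg.Geo.IsMDecomposition 3 D ∧ (∀ i, Cfsg.Geo.IsTotallySingularFor (Cfsg.hermForm 6 F q) (D i)) ∧ H = Cfsg.Geo.decompositionStabilizer D ⊓ (Cfsg.GU 6 F q ⊓ Cfsg.Geo.specialLinear (Fin 6) F)) ∨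
    (3 ≤ q ∧ ∃ K : Subalgebra F (Matrix (Fin 6) (Fin 6) F), Cfsg.Geo.IsFieldSubalgebra 3 K ∧ Cfsg.Geo.IsAdjointClosedFor (Cfsg.hermForm 6 F q) K ∧ H = Cfsg.Geo.subalgebraNormalizer K ⊓ (Cfsg.GU 6 F q ⊓ Cfsg.Geo.specialLinear (Fin 6) F)) ∨
    (3 ≤ q ∧ ∃ (e : Fin 6 ≃ Fin 2 × Fin 3) (P : Matrix.GeneralLinearGroup (Fin 6) F) (f₁ : (Fin 2 → F) → (Fin 2 → F) → F) (f₂ : (Fin 3 → F) → (Fin 3 → F) → F), Cfsg.Geo.IsUnitaryFormPow q f₁ ∧ Cfsg.Geo.IsUnitaryFormPow q f₂ ∧ Cfsg.Geo.IsTensorFormStructure (fun x : F => x ^ q) (Cfsg.hermForm 6 F q) f₁ f₂ e P ∧ H = Cfsg.Geo.tensorProductSubgroup 2 3 e P ⊓ (Cfsg.GU 6 F q ⊓ Cfsg.Geo.specialLinear (Fin 6) F)) ∨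
    (∃ (F₀ : Subfield F) (r : ℕ) (P : Matrix.GeneralLinearGroup (Fin 6) F), r.Prime ∧ Odd r ∧ Fintype.card F = Nat.card F₀ ^ r ∧ Cfsg.Geo.IsFormRationalStructure (Cfsg.hermForm 6 F q) F₀ 1 P ∧ H = Cfsg.Geo.subfieldSubgroup F₀ P ⊓ (Cfsg.GU 6 F q ⊓ Cfsg.Geo.specialLinear (Fin 6) F)) ∨
    (∃ (F₀ : Subfield F) (P : Matrix.GeneralLinearGroup (Fin 6) F) (ζ : F), Fintype.card F = Nat.card F₀ ^ 2 ∧ ζ ≠ 0 ∧ ζ + ζ ^ q = 0 ∧ Cfsg.Geo.IsFormRationalStructure (Cfsg.hermForm 6 F q) F₀ ζ P ∧ (∀ u : Fin 6 → F, (∀ i, u i ∈ F₀) → (Cfsg.hermForm 6 F q) (Matrix.mulVec (P : Matrix (Fin 6) (Fin 6) F) u) (Matrix.mulVec (P : Matrix (Fin 6) (Fin 6) F) u) = 0) ∧ H = Cfsg.Geo.subfieldSubgroup F₀ P ⊓ (Cfsg.GU 6 F q ⊓ Cfsg.Geo.specialLinear (Fin 6) F)) ∨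
    (Odd q ∧ ∃ (F₀ : Subfield F) (P : Matrix.GeneralLinearGroup (Fin 6) F), Fintype.card F = Nat.card F₀ ^ 2 ∧ Cfsg.Geo.IsFormRationalStructure (Cfsg.hermForm 6 F q) F₀ 1 P ∧ H = Cfsg.Geo.subfieldSubgroup F₀ P ⊓ (Cfsg.GU 6 F q ⊓ Cfsg.Geo.specialLinear (Fin 6) F)) ∨
    Cfsg.Geo.InUnitaryResidualClass H := by
  rcases uEq_of_uContain hF (by norm_num) (by norm_num) hH h with
    ⟨W, h1, h2, hE⟩ | ⟨W, h1, h2, h3, hE⟩ | ⟨t, k, D, htk, ht, hk, hD, hE⟩ | ⟨k, D, h1, h2, h3, hE⟩ |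
    ⟨r, K, h1, h2, h3, h4, h5, hE⟩ | ⟨n₁, n₂, e, P, f₁, f₂, h0, h1, h2, h3, h4, h5, hE⟩ |
    ⟨F₀, r, P, h1, h2, h3, h4, hE⟩ | ⟨F₀, P, h1, h2, h3, hE⟩ | ⟨F₀, P, ζ, h1, h2, h3, h4, h5, h6, hE⟩ |
    ⟨r, R, p, e, k, h1, h2, h3, h4, h5, h6, h7, hE⟩ |
    ⟨k, t, e, P, f₁, h0, h1, h2, h3, h4, h5, hE⟩ | hres
  · exact Or.inl (⟨W, h1, h2, hE⟩)
  · exact Or.inr (Or.inl (⟨W, h1, h2, h3, hE⟩))
  · have hkl : k ≤ 3 := by nlinarith
    have hc : (t = 6 ∧ k = 1) ∨ (t = 3 ∧ k = 2) ∨ (t = 2 ∧ k = 3) := by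
      interval_cases k <;> omega
    rcases hc with ⟨rfl, rfl⟩ | ⟨rfl, rfl⟩ | ⟨rfl, rfl⟩
    · by_cases hq : 3 ≤ q
      · exact Or.inr (Or.inr (Or.inl (⟨hq, D, hD, hE⟩)))
      · exfalso
        obtain rfl : q = 2 := by have := two_le_q hF; omega
        obtain ⟨K, hK1, hK2⟩ := Six.monomial_six hF hD
        rw [hE] at hH
        exact not_maximal_of_between hH hK1 hK2
    · by_cases hq : 3 ≤ q
      · exact Or.inr (Or.inr (Or.inr (Or.inl (⟨hq, D, hD, hE⟩))))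
      · exfalso
        obtain rfl : q = 2 := by have := two_le_q hF; omega
        obtain ⟨b, e, -, -, -, -, hdec, hle⟩ := planes_le_lines hF hD (by norm_num)
        have hle' : H ≤ decompositionStabilizer (fun j => Submodule.span F {b (e j).1 (e j).2}) := by
          rw [hE]; exact hle
        have hE2 := eq_inf_of_maximal hH hle'
          (not_le_decompositionStabilizer hF (by norm_num) (by norm_num) _ hdec.decomp)
        obtain ⟨K, hK1, hK2⟩ := Six.monomial_six hF hdec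
        rw [hE2] at hH
        exact not_maximal_of_between hH hK1 hK2
    · exact Or.inr (Or.inr (Or.inr (Or.inr (Or.inl (⟨D, hD, hE⟩)))))
  · obtain rfl : k = 3 := by omega
    exact Or.inr (Or.inr (Or.inr (Or.inr (Or.inr (Or.inl (⟨D, h2, h3, hE⟩))))))
  · rcases odd_prime_cases_le_twelve h1 h2 ((Nat.le_of_dvd (by norm_num) h3).trans (by norm_num)) with rfl | rfl | rfl | rfl
    · by_cases hq : 3 ≤ q
      · exact Or.inr (Or.inr (Or.inr (Or.inr (Or.inr (Or.inr (Or.inl (⟨hq, K, h4, h5, hE⟩)))))))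
      · obtain rfl : q = 2 := by have := two_le_q hF; omega
        obtain ⟨F₀, P, ζ, z1, z2, z3, z4, z5, hle⟩ := FS.field_six_le hF h4 h5
        have hle' : H ≤ subfieldSubgroup F₀ P := by rw [hE]; exact hle
        exact Or.inr (Or.inr (Or.inr (Or.inr (Or.inr (Or.inr (Or.inr (Or.inr (Or.inr (Or.inl (⟨F₀, P, ζ, z1, z2, z3, z4, z5,
          eq_inf_of_maximal hH hle' (not_le_subfieldSubgroup_two hF (by norm_num) (by norm_num) F₀ P z1)⟩))))))))))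
    · exact absurd h3 (by norm_num)
    · exact absurd h3 (by norm_num)
    · exact absurd h3 (by norm_num)
  · have hn1 : n₁ ≤ 3 := by nlinarith
    have hc : (n₁ = 2 ∧ n₂ = 3) := by
      interval_cases n₁ <;> omega
    rcases hc with ⟨rfl, rfl⟩
    by_cases hq : 3 ≤ q
    · exact Or.inr (Or.inr (Or.inr (Or.inr (Or.inr (Or.inr (Or.inr (Or.inl (⟨hq, e, P, f₁, f₂, h3, h4, h5, hE⟩))))))))
    · obtain rfl : q = 2 := by have := two_le_q hF; omega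
      obtain ⟨D, hD, hle⟩ := tensor_le_decomp hF (by norm_num) e P f₁ f₂ h3 h4 h5
      have hle' : H ≤ decompositionStabilizer D := by
        rw [hE]; exact hle
      exact Or.inr (Or.inr (Or.inr (Or.inr (Or.inl (⟨_, hD, eq_inf_of_maximal hH hle'
          (not_le_decompositionStabilizer hF (by norm_num) (by norm_num) _ hD.decomp)⟩)))))
  · exact Or.inr (Or.inr (Or.inr (Or.inr (Or.inr (Or.inr (Or.inr (Or.inr (Or.inl (⟨F₀, r, P, h1, h2, h3, h4, hE⟩)))))))))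
  · exact Or.inr (Or.inr (Or.inr (Or.inr (Or.inr (Or.inr (Or.inr (Or.inr (Or.inr (Or.inr (Or.inl (⟨h1, F₀, P, h2, h3, hE⟩)))))))))))
  · exact Or.inr (Or.inr (Or.inr (Or.inr (Or.inr (Or.inr (Or.inr (Or.inr (Or.inr (Or.inl (⟨F₀, P, ζ, h2, h3, h4, h5, h6, hE⟩))))))))))
  · exact absurd (no_two_primes h1.prime h7 (a := 2) (b := 3) (by norm_num) (by norm_num) (by norm_num) (by norm_num) (by norm_num)) id
  · exact absurd (pow_cases (by norm_num) h0 h1 h2).1 (by norm_num)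
  · exact Or.inr (Or.inr (Or.inr (Or.inr (Or.inr (Or.inr (Or.inr (Or.inr (Or.inr (Or.inr (Or.inr (hres)))))))))))

end Cfsg.Agent.UCase
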